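import Mathlib
import Groth.Prelude.Def_GrassD
import Groth.Agent.ModDesc.LocFreeDesc

/-!
# Coherence of `Grass.quotBC`; one more step of a flag is a Grassmannian
-/

set_option autoImplicit false
universe u

open CategoryTheory CategoryTheory.Limits AlgebraicGeometry

noncomputable section

namespace Groth.Agent.GrassBC

variable {X F F' T : Scheme.{u}} {π : F ⟶ X} {π' : F' ⟶ X} {E : X.Modules}

/-- Base change of quotients composes with morphisms of the quotient. -/
theorem quotBC_comp {h : T ⟶ F} {g : T ⟶ X} (hg : h ≫ π = g) {Q Q₂ : F.Modules}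
    (q : (Scheme.Modules.pullback π).obj E ⟶ Q) (t : Q ⟶ Q₂) :
    Grass.quotBC hg (q ≫ t) = Grass.quotBC hg q ≫ (Scheme.Modules.pullback h).map t := by
  simp [Grass.quotBC]

/-- Transitivity of base change of quotients. -/
theorem quotBC_quotBC {h : T ⟶ F'} {p : F' ⟶ F} {k : T ⟶ F} {g : T ⟶ X} (hp : p ≫ π = π')
    (hh : h ≫ π' = g) (hk : h ≫ p = k) (hkπ : k ≫ π = g) {Q : F.Modules}
    (q : (Scheme.Modules.pullback π).obj E ⟶ Q) :
    Grass.quotBC hh (Grass.quotBC hp q) ≫ (Scheme.Modules.pullbackComp h p).hom.app Q ≫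
      (Scheme.Modules.pullbackCongr hk).hom.app Q = Grass.quotBC hkπ q := by
  subst hp hk hh
  have hA := congr(($(Scheme.Modules.pseudofunctor_associativity h p π)).app E)
  simp only [NatTrans.comp_app, Functor.whiskerRight_app, Functor.associator_hom_app, Functor.whiskerLeft_app,
    Category.id_comp, eqToHom_app] at hA
  have hn := (Scheme.Modules.pullbackComp h p).hom.naturality q
  simp only [Functor.comp_map] at hn
  simp only [Grass.quotBC, Scheme.Modules.pullbackCongr, eqToIso.hom, eqToIso.inv, eqToHom_app, eqToHom_refl,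
    NatTrans.id_app, CategoryTheory.Functor.map_id, Category.id_comp, Category.comp_id, Functor.map_comp, Category.assoc, hn]
  rw [← cancel_mono (𝟙 _)]
  have hA' : (Scheme.Modules.pullbackComp h (p ≫ π)).inv.app E ≫
      (Scheme.Modules.pullback h).map ((Scheme.Modules.pullbackComp p π).inv.app E) ≫
        (Scheme.Modules.pullbackComp h p).hom.app _ =
      eqToHom (by simp) ≫ (Scheme.Modules.pullbackComp (h ≫ p) π).inv.app E := by
    rw [← cancel_mono ((Scheme.Modules.pullbackComp (h ≫ p) π).hom.app E)]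
    simp only [Category.assoc, Iso.inv_hom_id_app, Category.comp_id]
    exact hA
  simp only [Category.comp_id]
  rw [reassoc_of% hA']

/-- The last step of a flag scheme is a Grassmannian over the truncated flag scheme. -/
theorem isGrass_lift {m : ℕ} {n : Fin (m + 2) → ℕ}
    {Q : Fin (m + 1) → F.Modules} {q : ∀ i, (Scheme.Modules.pullback π).obj E ⟶ Q i}
    (hF : Grass.IsFlag π E (fun i => n (Fin.castSucc i)) Q q)
    {Q' : Fin (m + 2) → F'.Modules} {q' : ∀ i, (Scheme.Modules.pullback π').obj E ⟶ Q' i}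
    (hF' : Grass.IsFlag π' E n Q' q')
    (p : F' ⟶ F) (hp : p ≫ π = π')
    (ι : ∀ i, (Scheme.Modules.pullback p).obj (Q i) ≅ Q' (Fin.castSucc i))
    (hι : ∀ i, Grass.quotBC hp (q i) ≫ (ι i).hom = q' (Fin.castSucc i))
    (t : Q' (Fin.castSucc (Fin.last m)) ⟶ Q' (Fin.last (m + 1)))
    (ht : q' (Fin.castSucc (Fin.last m)) ≫ t = q' (Fin.last (m + 1))) :
    Grass.IsGrass p (Q (Fin.last m)) (n (Fin.last (m + 1))) (Q' (Fin.last (m + 1)))
      ((ι (Fin.last m)).hom ≫ t) := by
  haveI := hF'.epi (Fin.last (m + 1))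
  haveI : Epi t := epi_of_epi_fac ht
  refine ⟨hF'.rank _, inferInstance, fun T g L hL s hs => ?_⟩
  let gX := g ≫ π
  let B : ∀ i, (Scheme.Modules.pullback gX).obj E ⟶ (Scheme.Modules.pullback g).obj (Q i) :=
    fun i => Grass.quotBC rfl (q i)
  let L' : Fin (m + 2) → T.Modules := Fin.snoc (fun i => (Scheme.Modules.pullback g).obj (Q i)) L
  have eL : ∀ i, L' (Fin.castSucc i) = (Scheme.Modules.pullback g).obj (Q i) := fun i => Fin.snoc_castSucc ..
  have eL' : L' (Fin.last (m + 1)) = L := Fin.snoc_last ..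
  let s' : ∀ i, (Scheme.Modules.pullback gX).obj E ⟶ L' i :=
    Fin.lastCases ((B (Fin.last m) ≫ s) ≫ eqToHom eL'.symm) (fun i => B i ≫ eqToHom (eL i).symm)
  have hs'c : ∀ i, s' (Fin.castSucc i) = B i ≫ eqToHom (eL i).symm := fun i => Fin.lastCases_castSucc ..
  have hs'l : s' (Fin.last (m + 1)) = (B (Fin.last m) ≫ s) ≫ eqToHom eL'.symm := Fin.lastCases_last ..
  have hB : ∀ i, Epi (B i) := fun i => by
    haveI := hF.epi i
    haveI := Grass.epi_pullback_map g (q i)
    simp only [B, Grass.quotBC]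
    infer_instance
  have hrankB : ∀ i, FlatMod.IsFinLocFreeOfRank (n (Fin.castSucc i)) ((Scheme.Modules.pullback g).obj (Q i)) :=
    fun i => fun x => by
      obtain ⟨U, hU, ⟨e⟩⟩ := hF.rank i (g x)
      exact ⟨g ⁻¹ᵁ U, hU, ModDesc.exists_free_pullback g e⟩
  have hrank : ∀ i, FlatMod.IsFinLocFreeOfRank (n i) (L' i) := by
    refine Fin.lastCases ?_ fun i => ?_
    · rw [eL']; exact hL
    · rw [eL i]; exact hrankB i
  have hepi : ∀ i, Epi (s' i) := by
    refine Fin.lastCases ?_ fun i => ?_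
    · rw [hs'l]; haveI := hB (Fin.last m); infer_instance
    · rw [hs'c]; haveI := hB i; infer_instance
  have hnB : ∀ i j, i ≤ j → ∃ τ, B i ≫ τ = B j := fun i j hij => by
    obtain ⟨τ, hτ⟩ := hF.nested i j hij
    exact ⟨(Scheme.Modules.pullback g).map τ, by rw [← quotBC_comp, hτ]⟩
  have hnest : ∀ i j, i ≤ j → ∃ τ : L' i ⟶ L' j, s' i ≫ τ = s' j := by
    intro i j hij
    induction j using Fin.lastCases with
    | last =>
      induction i using Fin.lastCases with
      | last => exact ⟨𝟙 _, Category.comp_id _⟩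
      | cast i =>
        obtain ⟨τ, hτ⟩ := hnB i (Fin.last m) (Fin.le_last _)
        exact ⟨eqToHom (eL i) ≫ τ ≫ s ≫ eqToHom eL'.symm, by simp [hs'c, hs'l, reassoc_of% hτ]⟩
    | cast j =>
      induction i using Fin.lastCases with
      | last => exact absurd hij (not_le.mpr (Fin.castSucc_lt_last j))
      | cast i =>
        obtain ⟨τ, hτ⟩ := hnB i j (Fin.castSucc_le_castSucc_iff.mp hij)
        exact ⟨eqToHom (eL i) ≫ τ ≫ eqToHom (eL j).symm, by simp [hs'c, reassoc_of% hτ]⟩
  obtain ⟨h, ⟨hh, e, he⟩, huniq⟩ := hF'.univ T gX L' hrank s' hepi hnest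
  -- classifying morphisms of the truncated family
  have hk : ∀ (h : T ⟶ F') (hh : h ≫ π' = gX) (k : T ⟶ F) (hk : h ≫ p = k) (hkπ : k ≫ π = gX) (i : Fin (m + 1)),
      Grass.quotBC hkπ (q i) = Grass.quotBC hh (q' (Fin.castSucc i)) ≫
        (Scheme.Modules.pullback h).map (ι i).inv ≫ (Scheme.Modules.pullbackComp h p).hom.app (Q i) ≫
          (Scheme.Modules.pullbackCongr hk).hom.app (Q i) := by
    intro h hh k hk hkπ i
    rw [← quotBC_quotBC hp hh hk hkπ (q i), ← hι i]
    simp only [Grass.quotBC, Functor.map_comp, Category.assoc, Iso.map_hom_inv_id_assoc]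
  have hnest₀ : ∀ i j, i ≤ j → ∃ τ, B i ≫ τ = B j := hnB
  have hgp : h ≫ p = g := by
    have hkπ : (h ≫ p) ≫ π = gX := by rw [Category.assoc, hp, hh]
    have h1 := hF.lift_unique gX _ hrankB B hB hnest₀ g rfl (fun i => Iso.refl _) (fun i => Category.comp_id _)
    have h2 := hF.lift_unique gX _ hrankB B hB hnest₀ (h ≫ p) hkπ
      (fun i => (Scheme.Modules.pullbackComp h p).symm.app (Q i) ≪≫ (Scheme.Modules.pullback h).mapIso (ι i) ≪≫
        e (Fin.castSucc i) ≪≫ eqToIso (eL i)) (fun i => by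
        rw [hk h hh (h ≫ p) rfl hkπ i]
        simp only [Iso.trans_hom, Iso.app_hom, Iso.symm_hom, Functor.mapIso_hom, eqToIso.hom,
          Scheme.Modules.pullbackCongr, eqToHom_refl, NatTrans.id_app, Category.comp_id, Category.assoc,
          Iso.hom_inv_id_app_assoc, ← Functor.map_comp_assoc, Iso.inv_hom_id, CategoryTheory.Functor.map_id,
          Category.id_comp]
        have he' := he (Fin.castSucc i)
        rw [hs'c] at he'
        simp only [Grass.quotBC, Scheme.Modules.pullbackCongr, Category.assoc] at he' ⊢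
        rw [reassoc_of% he']
        simp)
    exact h2.trans h1.symm
  -- the formula linking the two base changes
  have key : ∀ (h : T ⟶ F') (hh : h ≫ π' = gX) (hgp : h ≫ p = g) ,
      B (Fin.last m) ≫ Grass.quotBC hgp ((ι (Fin.last m)).hom ≫ t) = Grass.quotBC hh (q' (Fin.last (m + 1))) := by
    intro h hh hgp
    rw [show B (Fin.last m) = _ from hk h hh g hgp rfl (Fin.last m), ← ht, quotBC_comp]
    simp only [Grass.quotBC, Functor.map_comp, Category.assoc, Iso.hom_inv_id_app_assoc,
      Scheme.Modules.pullbackCongr, eqToIso.hom, eqToIso.inv, eqToHom_app, eqToHom_trans_assoc, eqToHom_refl,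
      Category.id_comp]
    rw [← Functor.map_comp_assoc (Scheme.Modules.pullback h) (ι _).inv, Iso.inv_hom_id, CategoryTheory.Functor.map_id,
      Category.id_comp]
  haveI := hB (Fin.last m)
  refine ⟨h, ⟨hgp, e (Fin.last (m + 1)) ≪≫ eqToIso eL', ?_⟩, ?_⟩
  · rw [← cancel_epi (B (Fin.last m)), Iso.trans_hom, ← Category.assoc, key h hh hgp, ← Category.assoc, he, hs'l]
    simp
  · rintro h' ⟨hgp', e', he'⟩
    have hh' : h' ≫ π' = gX := by rw [← hp, ← Category.assoc, hgp']
    refine huniq h' ⟨hh', Fin.lastCases (e' ≪≫ eqToIso eL'.symm) (fun i =>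
      (Scheme.Modules.pullback h').mapIso (ι i).symm ≪≫ (Scheme.Modules.pullbackComp h' p).app (Q i) ≪≫
        (Scheme.Modules.pullbackCongr hgp').app (Q i) ≪≫ eqToIso (eL i).symm), ?_⟩
    refine Fin.lastCases ?_ fun i => ?_
    · simp only [Fin.lastCases_last]
      rw [Iso.trans_hom, ← key h' hh' hgp', hs'l, Category.assoc, ← Category.assoc _ e'.hom, he']
      simp
    · simp only [Fin.lastCases_castSucc]
      rw [hs'c, show B i = _ from hk h' hh' g hgp' rfl i]
      simp only [Iso.trans_hom, Functor.mapIso_hom, Iso.symm_hom, Iso.app_hom, eqToIso.hom, Category.assoc]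

end Groth.Agent.GrassBC
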