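import Groth.Agent.GrassBC.Basic
import Groth.Agent.VanLocus.Scheme
import Groth.Agent.W7Hull.LiftHom

/-!
# The morphism of Grassmannians of a surjection is a closed immersion
-/

set_option autoImplicit false
set_option linter.style.haveILetI false
universe u

open CategoryTheory CategoryTheory.Limits AlgebraicGeometry

noncomputable section

namespace Groth.Agent.GrassBC

variable {X G T : Scheme.{u}} {π : G ⟶ X} {E E' : X.Modules} {Q : G.Modules}

/-- Base change of quotients composes with morphisms of the module. -/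
theorem map_quotBC {h : T ⟶ G} {g : T ⟶ X} (hg : h ≫ π = g) (w : E' ⟶ E)
    (q : (Scheme.Modules.pullback π).obj E ⟶ Q) :
    (Scheme.Modules.pullback g).map w ≫ Grass.quotBC hg q =
      Grass.quotBC hg ((Scheme.Modules.pullback π).map w ≫ q) := by
  subst hg
  simp [Grass.quotBC, Scheme.Modules.pullbackCongr]

/-- Base change along the identity. -/
theorem quotBC_id (q : (Scheme.Modules.pullback π).obj E ⟶ Q) :
    Grass.quotBC (Category.id_comp π) q ≫ (Scheme.Modules.pullbackId G).hom.app Q = q := by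
  have hn := (Scheme.Modules.pullbackId G).hom.naturality q
  simp only [Functor.id_map] at hn
  have hu := congr(($(Scheme.Modules.pseudofunctor_right_unitality π)).app E)
  simp only [NatTrans.comp_app, Functor.whiskerLeft_app, Functor.rightUnitor_hom_app] at hu
  erw [Category.comp_id] at hu
  simp only [Grass.quotBC, Scheme.Modules.pullbackCongr, eqToIso.inv, Category.assoc]
  rw [hn, ← Category.assoc ((Scheme.Modules.pullbackComp _ _).inv.app E), hu]
  simp

/-- Transitivity of base change of quotients, with an identification in the middle. -/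
theorem quotBC_trans {F' : Scheme.{u}} {π' : F' ⟶ X} {h : T ⟶ F'} {p : F' ⟶ G} (hp : p ≫ π = π')
    {g : T ⟶ X} (hh : h ≫ π' = g) (hkπ : (h ≫ p) ≫ π = g) (q : (Scheme.Modules.pullback π).obj E ⟶ Q)
    {Q' : F'.Modules} (f : (Scheme.Modules.pullback p).obj Q ⟶ Q') :
    Grass.quotBC hkπ q ≫ (Scheme.Modules.pullbackComp h p).inv.app Q ≫ (Scheme.Modules.pullback h).map f =
      Grass.quotBC hh (Grass.quotBC hp q ≫ f) := by
  rw [← quotBC_quotBC hp hh rfl hkπ q, quotBC_comp]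
  simp only [Category.assoc]
  repeat rw [show (Scheme.Modules.pullbackCongr (rfl : h ≫ p = h ≫ p)).hom.app Q = 𝟙 _ from rfl, Category.id_comp]
  rw [Iso.hom_inv_id_app_assoc]
  simp only [Grass.quotBC, Functor.map_comp, Category.assoc]

/-- Base change along equal morphisms. -/
theorem quotBC_congr {h h' : T ⟶ G} (e : h = h') {g : T ⟶ X} (hg : h ≫ π = g) (hg' : h' ≫ π = g)
    (q : (Scheme.Modules.pullback π).obj E ⟶ Q) :
    Grass.quotBC hg q ≫ (Scheme.Modules.pullbackCongr e).hom.app Q = Grass.quotBC hg' q := by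
  subst e
  simp [Scheme.Modules.pullbackCongr]

/-- Pullback of an epimorphism is the cokernel of the pullback of its kernel. -/
theorem exists_desc (g : T ⟶ X) (v : E' ⟶ E) [Epi v] {L : T.Modules}
    (s : (Scheme.Modules.pullback g).obj E' ⟶ L)
    (hs : (Scheme.Modules.pullback g).map (kernel.ι v) ≫ s = 0) :
    ∃ s₂ : (Scheme.Modules.pullback g).obj E ⟶ L, (Scheme.Modules.pullback g).map v ≫ s₂ = s := by
  let adj := Scheme.Modules.pullbackPushforwardAdjunction g
  have h0 : kernel.ι v ≫ adj.homEquiv _ _ s = 0 := by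
    rw [← Adjunction.homEquiv_naturality_left, hs]
    simp [Adjunction.homEquiv_unit]
  refine ⟨(adj.homEquiv _ _).symm
    ((Abelian.epiIsCokernelOfKernel (KernelFork.ofι (kernel.ι v) (kernel.condition v)) (kernelIsKernel v)).desc
      (CokernelCofork.ofπ _ h0)), ?_⟩
  rw [← Adjunction.homEquiv_naturality_left_symm]
  refine (congrArg _ ?_).trans ((adj.homEquiv _ _).symm_apply_apply s)
  exact (Abelian.epiIsCokernelOfKernel (KernelFork.ofι (kernel.ι v) (kernel.condition v))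
    (kernelIsKernel v)).fac (CokernelCofork.ofπ _ h0) WalkingParallelPair.one

theorem isClosedImmersion_mapOfEpi {G₁ G₂ : Scheme.{u}} {π₁ : G₁ ⟶ X} {π₂ : G₂ ⟶ X}
    {E₁ E₂ : X.Modules} (hE₁ : Coh.IsQCoh E₁) (hE₂ : Coh.IsQCoh E₂) (v : E₁ ⟶ E₂) [Epi v] {e : ℕ}
    {Q₁ : G₁.Modules} {q₁ : (Scheme.Modules.pullback π₁).obj E₁ ⟶ Q₁} (hG₁ : Grass.IsGrass π₁ E₁ e Q₁ q₁)
    {Q₂ : G₂.Modules} {q₂ : (Scheme.Modules.pullback π₂).obj E₂ ⟶ Q₂} (hG₂ : Grass.IsGrass π₂ E₂ e Q₂ q₂) :
    IsClosedImmersion (hG₁.mapOfEpi hG₂ v) := by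
  have hlf : FlatMod.IsFinLocFree Q₁ := fun x => by
    obtain ⟨U, hU, h⟩ := hG₁.rank x
    exact ⟨U, e, hU, h⟩
  haveI : Coh.IsQCoh Q₁ := LocFree.isQCoh_of_isFinLocFree hlf
  haveI : Coh.IsQCoh ((Scheme.Modules.pullback π₁).obj (kernel v)) :=
    QC.isQCoh_pullback _ (QC.isQCoh_kernel hE₁ hE₂ v)
  let σ := (Scheme.Modules.pullback π₁).map (kernel.ι v) ≫ q₁
  obtain ⟨Z, j, hj, hZ⟩ := VanLocus.exists_closedImmersion (𝟙 G₁) σ
    (LocFree.isFP_of_isFinLocFree hlf) (W7Hull.isFlatOver_of_isFinLocFree (𝟙 G₁) hlf)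
  have hiff : ∀ {T : Scheme.{u}} (g : T ⟶ G₁),
      (∃ h : T ⟶ Z, h ≫ j = g) ↔ (Scheme.Modules.pullback g).map σ = 0 := fun {T} g =>
    (hZ T g).trans (VanLocus.vanG_iff _ σ g g (𝟙 T)
      (IsPullback.of_vert_isIso ⟨by simp⟩))
  -- the morphism lands in the vanishing locus
  let m := hG₁.mapOfEpi hG₂ v
  have hm := hG₁.mapOfEpi_comp hG₂ v
  haveI := hG₂.epi
  haveI := Grass.epi_pullback_map π₂ v
  let em : (Scheme.Modules.pullback m).obj Q₁ ≅ Q₂ :=
    hG₁.liftIso π₂ Q₂ hG₂.rank ((Scheme.Modules.pullback π₂).map v ≫ q₂) (epi_comp _ _)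
  have hem : Grass.quotBC hm q₁ ≫ em.hom = (Scheme.Modules.pullback π₂).map v ≫ q₂ :=
    hG₁.quotBC_liftIso π₂ Q₂ hG₂.rank _ _
  have hm0 : (Scheme.Modules.pullback m).map σ = 0 := by
    have h1 : (Scheme.Modules.pullback π₂).map (kernel.ι v) ≫ Grass.quotBC hm q₁ = 0 := by
      rw [← cancel_mono em.hom, Category.assoc, hem, ← Functor.map_comp_assoc, kernel.condition]
      simp
    rw [map_quotBC] at h1
    change _ ≫ _ ≫ (Scheme.Modules.pullback m).map σ = 0 at h1
    exact (cancel_epi _).1 (((cancel_epi _).1 (h1.trans comp_zero.symm)).trans comp_zero.symm)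
  obtain ⟨k, hk⟩ := (hiff m).2 hm0
  -- the quotient on the vanishing locus
  have hj0 : (Scheme.Modules.pullback j).map σ = 0 := (hiff j).1 ⟨𝟙 Z, Category.id_comp j⟩
  let g := j ≫ π₁
  obtain ⟨s₂, hs₂⟩ := exists_desc g v (Grass.quotBC (rfl : j ≫ π₁ = g) q₁) (by
    rw [map_quotBC]
    change _ ≫ _ ≫ (Scheme.Modules.pullback j).map σ = 0
    rw [hj0, comp_zero, comp_zero])
  haveI := hG₁.epi
  haveI := Grass.epi_pullback_map j q₁
  haveI : Epi s₂ := epi_of_epi_fac hs₂
  have hrk : FlatMod.IsFinLocFreeOfRank e ((Scheme.Modules.pullback j).obj Q₁) := fun x => by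
    obtain ⟨U, hU, ⟨e'⟩⟩ := hG₁.rank (j x)
    exact ⟨j ⁻¹ᵁ U, hU, ModDesc.exists_free_pullback j e'⟩
  obtain ⟨h, ⟨hh, eh, heh⟩, -⟩ := hG₂.univ Z g _ hrk s₂ inferInstance
  -- `h ≫ m = j`
  have hhm : h ≫ m = j := by
    have h2 : Grass.quotBC hh (Grass.quotBC hm q₁) ≫ (Scheme.Modules.pullback h).map em.hom ≫ eh.hom =
        Grass.quotBC (rfl : j ≫ π₁ = g) q₁ := by
      rw [← Category.assoc, ← quotBC_comp, hem, ← map_quotBC, Category.assoc, heh, hs₂]
    refine (hG₁.univ Z g _ hrk (Grass.quotBC (rfl : j ≫ π₁ = g) q₁)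
      (inferInstanceAs (Epi (_ ≫ _ ≫ (Scheme.Modules.pullback j).map q₁)))).unique
      ⟨by rw [Category.assoc, hm, hh],
        ((Scheme.Modules.pullbackComp h m).app Q₁).symm ≪≫ (Scheme.Modules.pullback h).mapIso em ≪≫ eh, ?_⟩
      ⟨rfl, Iso.refl _, Category.comp_id _⟩
    simp only [Iso.trans_hom, Iso.symm_hom, Iso.app_inv, Functor.mapIso_hom]
    rw [← Category.assoc ((Scheme.Modules.pullbackComp h m).inv.app Q₁), ← Category.assoc, quotBC_trans hm hh,
      quotBC_comp, Category.assoc]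
    exact h2
  -- `k ≫ h = 𝟙`
  have hkh : k ≫ h = 𝟙 G₂ := by
    have hkg : k ≫ g = π₂ := by rw [← Category.assoc, hk, hm]
    have hkh' : (k ≫ h) ≫ π₂ = π₂ := by rw [Category.assoc, hh, hkg]
    let eQ := (Scheme.Modules.pullbackComp k j).app Q₁ ≪≫ (Scheme.Modules.pullbackCongr hk).app Q₁ ≪≫ em
    refine (hG₂.univ G₂ π₂ Q₂ hG₂.rank q₂ hG₂.epi).unique
      ⟨hkh', ((Scheme.Modules.pullbackComp k h).app Q₂).symm ≪≫ (Scheme.Modules.pullback k).mapIso eh ≪≫ eQ, ?_⟩
      ⟨Category.id_comp _, (Scheme.Modules.pullbackId G₂).app Q₂, ?_⟩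
    · simp only [Iso.trans_hom, Iso.symm_hom, Iso.app_inv, Functor.mapIso_hom]
      rw [← Category.assoc ((Scheme.Modules.pullbackComp k h).inv.app Q₂), ← Category.assoc,
        quotBC_trans hh hkg, heh, ← cancel_epi ((Scheme.Modules.pullback π₂).map v), ← Category.assoc,
        map_quotBC, hs₂, ← hem]
      simp only [eQ, Iso.trans_hom, Iso.app_hom]
      rw [← Category.assoc, ← Category.assoc, Category.assoc (Grass.quotBC _ _),
        quotBC_quotBC rfl hkg hk hm q₁]
    · exact quotBC_id q₂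
  haveI : IsIso k := ⟨⟨h, hkh, by rw [← cancel_mono j, Category.assoc, hk, hhm, Category.id_comp]⟩⟩
  change IsClosedImmersion m
  rw [← hk]
  infer_instance

end Groth.Agent.GrassBC
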